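import Mathlib
import Groth.Agent.CILib.RelGCIQuot
import Groth.Agent.CILib.RelGCISyntomic
import Groth.Agent.CILib.LCIPoint
import Groth.Agent.GorLib.TopHull
import Groth.Agent.GorLib.Ring

/-!
Syntomic algebras under base change, and complete intersections over a field are Gorenstein.
-/

set_option autoImplicit false

universe u

open TensorProduct

namespace Groth.Agent.QFOmegaSynLib

open CILib in
theorem isSyntomic_baseChange {R S : Type u} [CommRing R] [CommRing S] [Algebra R S] (h : Synt.IsSyntomic R S)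
    (R' : Type u) [CommRing R'] [Algebra R R'] : Synt.IsSyntomic R' (R' ⊗[R] S) := by
  obtain ⟨G, hG, hP⟩ := exists_finset_relGCI h
  refine isSyntomic_of_span ((Algebra.TensorProduct.includeRight : S →ₐ[R] R' ⊗[R] S) '' (G : Set S)) ?_ ?_
  · have := congrArg (Ideal.map (Algebra.TensorProduct.includeRight : S →ₐ[R] R' ⊗[R] S)) hG
    rwa [Ideal.map_span, Ideal.map_top] at this
  · rintro _ ⟨g, hg, rfl⟩
    obtain ⟨n, c, F, hF, ⟨e⟩⟩ := hP g hg
    obtain ⟨e'⟩ := exists_fibre_away_equiv (R := R) (S := S) R' g (Localization.Away g)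
    exact isSyntomic_congr ((e'.trans (Algebra.TensorProduct.congr AlgEquiv.refl e)).trans (baseChangeEquiv R' F)).symm
      (isSyntomic_of_isRelGCI _ (isRelGCI_baseChange hF R'))

theorem gorensteinRing_of_isLCIOver (k S : Type u) [Field k] [CommRing S] [Algebra k S]
    (h : Synt.IsLCIOver k S) : LocCoh.IsGorensteinRing S := by
  haveI := h.1
  haveI : IsNoetherianRing S := Algebra.FiniteType.isNoetherianRing k S
  refine { isGorensteinLocalRing_localization := fun q _ => ?_ }
  obtain ⟨R, _, _, _, -, rs, hm, hreg, ⟨e⟩⟩ := CILib.isCIOver_atPrime_of_isLCIOver h q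
  exact GorLib.gorenstein_of_ringEquiv e.symm.toRingEquiv
    (GorLib.gorenstein_quot_seq rs.length R (GorLib.gorensteinLocal_of_regular R) rs rfl hm hreg.toIsWeaklyRegular)

end Groth.Agent.QFOmegaSynLib
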