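import Mathlib
import Groth.Agent.Hensel.Idempotent
import Groth.Agent.QFDualLib.Dual

/-!
The local factors of a finite algebra over a henselian local ring and their dualizing modules.
-/

set_option autoImplicit false
set_option backward.isDefEq.respectTransparency false

universe u

open TensorProduct

namespace Groth.Agent.QFOmegaSynLib

/-- An idempotent singling out a maximal ideal of a finite algebra over a henselian local ring. -/
theorem exists_idempotent_local {R C : Type u} [CommRing R] [IsLocalRing R] [CommRing C] [Algebra R C]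
    [Module.Finite R C] [HenselianRing R (IsLocalRing.maximalIdeal R)] (M : Ideal C) [M.IsMaximal] :
    ∃ e : C, IsIdempotentElem e ∧ e ∉ M ∧ ∀ N : Ideal C, N.IsMaximal → N ≠ M → e ∈ N := by
  classical
  let J := (IsLocalRing.maximalIdeal R).map (algebraMap R C)
  haveI : IsArtinianRing (C ⧸ J) := by
    letI : Field (R ⧸ IsLocalRing.maximalIdeal R) := Ideal.Quotient.field _
    haveI : Module.Finite (R ⧸ IsLocalRing.maximalIdeal R) (C ⧸ J) :=
      Module.Finite.of_restrictScalars_finite R _ _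
    exact IsArtinianRing.of_finite (R ⧸ IsLocalRing.maximalIdeal R) (C ⧸ J)
  have hJ : ∀ N : Ideal C, N.IsMaximal → J ≤ N := fun N hN =>
    (Hensel.map_le_jacobson_of_isIntegral (HenselianRing.jac (I := IsLocalRing.maximalIdeal R))).trans
      (sInf_le ⟨bot_le, hN⟩)
  haveI : Finite {N : Ideal C // N.IsMaximal ∧ N ≠ M} := by
    refine Finite.of_injective (β := MaximalSpectrum (C ⧸ J)) (fun N => ⟨N.1.map (Ideal.Quotient.mk J),
      haveI := N.2.1
      Ideal.IsMaximal.map_of_surjective_of_ker_le (hf := Ideal.Quotient.mk_surjective)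
        (by rw [Ideal.mk_ker]; exact hJ _ N.2.1)⟩) fun N N' h => ?_
    have h1 := congrArg (fun P => P.asIdeal.comap (Ideal.Quotient.mk J)) h
    simp only [Ideal.comap_map_of_surjective' _ Ideal.Quotient.mk_surjective, Ideal.mk_ker] at h1
    rw [sup_eq_left.2 (hJ _ N.2.1), sup_eq_left.2 (hJ _ N'.2.1)] at h1
    exact Subtype.ext h1
  haveI := Fintype.ofFinite {N : Ideal C // N.IsMaximal ∧ N ≠ M}
  have hex : ∀ N : {N : Ideal C // N.IsMaximal ∧ N ≠ M}, ∃ r, r ∈ N.1 ∧ r ∉ M := fun N =>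
    SetLike.not_le_iff_exists.1 fun hle => N.2.2 (N.2.1.eq_of_le (Ideal.IsMaximal.ne_top ‹_›) hle)
  choose r hr hr' using hex
  let f : C := ∏ N, r N
  have hfM : f ∉ M := fun h => by
    obtain ⟨N, -, hN⟩ := ((inferInstance : M.IsPrime).prod_mem_iff).1 h
    exact hr' N hN
  have hfN : ∀ N : Ideal C, N.IsMaximal → N ≠ M → f ∈ N := fun N h1 h2 =>
    Ideal.prod_mem _ (Finset.mem_univ ⟨N, h1, h2⟩) (hr ⟨N, h1, h2⟩)
  obtain ⟨n, y, hy⟩ := IsArtinian.exists_pow_succ_smul_dvd (Ideal.Quotient.mk J f) (1 : C ⧸ J)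
  obtain ⟨y, rfl⟩ := Ideal.Quotient.mk_surjective y
  simp only [smul_eq_mul, mul_one] at hy
  set z := Ideal.Quotient.mk J f
  set w := Ideal.Quotient.mk J y
  have hpow : ∀ k, z ^ n = z ^ (n + k) * w ^ k := by
    intro k
    induction k with
    | zero => simp
    | succ k ih =>
      rw [Nat.succ_eq_add_one, pow_succ] at hy
      rw [pow_add] at ih
      rw [pow_add, pow_succ z k, pow_succ w k]
      linear_combination ih - (z ^ k * w ^ k) * hy
  have hpos : z ^ (n + 1) = z ^ (n + 1 + (n + 1)) * w ^ (n + 1) := by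
    rw [pow_succ z n, hpow (n + 1)]
    ring
  have hid : IsIdempotentElem (z ^ (n + 1) * w ^ (n + 1)) := by
    show _ * _ = _
    conv_rhs => rw [hpos]
    ring
  obtain ⟨e, he, hez⟩ := Hensel.surjOn_idempotent (A := R) (I := IsLocalRing.maximalIdeal R) C hid
  have hez' : Ideal.Quotient.mk J e = z ^ (n + 1) * w ^ (n + 1) := hez
  refine ⟨e, he, fun heM => hfM ?_, fun N hN hNM => ?_⟩
  · refine Ideal.IsPrime.mem_of_pow_mem inferInstance (n + 1) ?_
    have h : f ^ (n + 1) - e * f ^ (n + 1) ∈ J := by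
      rw [← Ideal.Quotient.eq, map_mul, map_pow, hez']
      conv_lhs => rw [hpos]
      ring
    simpa using add_mem (hJ M inferInstance h) (M.mul_mem_right (f ^ (n + 1)) heM)
  · have h : e - f ^ (n + 1) * y ^ (n + 1) ∈ J := by
      rw [← Ideal.Quotient.eq, hez', map_mul, map_pow, map_pow]
    simpa using add_mem (hJ N hN h) (N.mul_mem_right (y ^ (n + 1))
      (N.pow_mem_of_mem (hfN N hN hNM) (n + 1) n.succ_pos))

/-- The factor cut out by such an idempotent is local. -/
theorem isLocalRing_factor {C : Type u} [CommRing C] (M : Ideal C) [M.IsMaximal] (e : C)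
    (he : IsIdempotentElem e) (heM : e ∉ M) (heN : ∀ N : Ideal C, N.IsMaximal → N ≠ M → e ∈ N) :
    IsLocalRing (C ⧸ Ideal.span {1 - e}) ∧
      ∀ x : C, x ∉ M → IsUnit (Ideal.Quotient.mk (Ideal.span {1 - e}) x) := by
  let K := Ideal.span {1 - e}
  have hKM : K ≤ M := by
    rw [Ideal.span_singleton_le_iff_mem]
    refine (Ideal.IsPrime.mem_or_mem (inferInstance : M.IsPrime) (?_ : e * (1 - e) ∈ M)).resolve_left heM
    rw [mul_sub, mul_one, he.eq, sub_self]
    exact zero_mem M
  have huniq : ∀ Q : Ideal (C ⧸ K), Q.IsMaximal → Q.comap (Ideal.Quotient.mk K) = M := fun Q hQ => by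
    haveI := hQ
    haveI : (Q.comap (Ideal.Quotient.mk K)).IsMaximal :=
      Ideal.comap_isMaximal_of_surjective _ Ideal.Quotient.mk_surjective
    by_contra hne
    have h1 : e ∈ Q.comap (Ideal.Quotient.mk K) := heN _ inferInstance hne
    have h2 : (1 - e) ∈ Q.comap (Ideal.Quotient.mk K) := by
      rw [Ideal.mem_comap, Ideal.Quotient.eq_zero_iff_mem.2 (Ideal.mem_span_singleton_self _)]
      exact zero_mem Q
    exact Ideal.IsMaximal.ne_top ‹(Q.comap (Ideal.Quotient.mk K)).IsMaximal›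
      ((Ideal.eq_top_iff_one _).2 (by simpa using add_mem h1 h2))
  haveI : Nontrivial (C ⧸ K) := Ideal.Quotient.nontrivial_iff.2 fun h => Ideal.IsMaximal.ne_top ‹_› (top_le_iff.1 (h ▸ hKM))
  obtain ⟨Q₀, hQ₀⟩ := Ideal.exists_maximal (C ⧸ K)
  haveI : IsLocalRing (C ⧸ K) := IsLocalRing.of_unique_max_ideal ⟨Q₀, hQ₀, fun Q hQ =>
    Ideal.comap_injective_of_surjective _ Ideal.Quotient.mk_surjective ((huniq Q hQ).trans (huniq Q₀ hQ₀).symm)⟩
  refine ⟨inferInstance, fun x hx => ?_⟩
  by_contra hu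
  exact hx ((huniq (IsLocalRing.maximalIdeal (C ⧸ K)) inferInstance).le
    (show Ideal.Quotient.mk K x ∈ IsLocalRing.maximalIdeal (C ⧸ K) from hu))

/-- The dualizing module of a factor is the base change of the dualizing module. -/
theorem exists_omega_factor_equiv {R C : Type u} [CommRing R] [CommRing C] [Algebra R C] (e : C)
    (he : IsIdempotentElem e) :
    Nonempty (((C ⧸ Ideal.span {1 - e}) ⊗[C] Disc.Omega R C) ≃ₗ[C ⧸ Ideal.span {1 - e}]
      Disc.Omega R (C ⧸ Ideal.span {1 - e})) := by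
  let K := Ideal.span {1 - e}
  let D := C ⧸ K
  let π : C →ₗ[R] D := (Ideal.Quotient.mkₐ R K).toLinearMap
  let ms : C →ₗ[R] C := LinearMap.mulLeft R e
  have hms : LinearMap.ker π ≤ LinearMap.ker ms := fun x hx => by
    obtain ⟨c, rfl⟩ := Ideal.mem_span_singleton'.1 (Ideal.Quotient.eq_zero_iff_mem.1 hx)
    show e * _ = 0
    rw [mul_left_comm, mul_sub, mul_one, he.eq, sub_self, mul_zero]
  let s : D →ₗ[R] C := (LinearMap.ker π).liftQ ms hms ∘ₗ
    (π.quotKerEquivOfSurjective Ideal.Quotient.mk_surjective).symm.toLinearMap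
  have hs : ∀ x, s (Ideal.Quotient.mk K x) = e * x := fun x => by
    show (LinearMap.ker π).liftQ ms hms ((π.quotKerEquivOfSurjective Ideal.Quotient.mk_surjective).symm (π x)) = _
    rw [show (π.quotKerEquivOfSurjective Ideal.Quotient.mk_surjective).symm (π x) = Submodule.Quotient.mk x from
      (LinearEquiv.symm_apply_eq _).2 rfl]
    rfl
  have hse : Ideal.Quotient.mk K e = 1 := by
    rw [← map_one (Ideal.Quotient.mk K)]
    exact (Ideal.Quotient.eq.2 (Ideal.mem_span_singleton_self _)).symm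
  letI : Module C (Disc.Omega R D) := Module.compHom _ (algebraMap C D)
  haveI : IsScalarTower C D (Disc.Omega R D) := IsScalarTower.of_algebraMap_smul fun _ _ => rfl
  let g : Disc.Omega R C →ₗ[C] Disc.Omega R D :=
    { toFun := fun φ => Disc.Omega.mk (φ.toLinearMap ∘ₗ s)
      map_add' := fun φ ψ => Disc.Omega.ext (LinearMap.ext fun x => rfl)
      map_smul' := fun c φ => Disc.Omega.ext (LinearMap.ext fun x => by
        obtain ⟨x, rfl⟩ := Ideal.Quotient.mk_surjective x
        show (c • φ).toLinearMap (s (Ideal.Quotient.mk K x)) =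
          φ.toLinearMap (s (Ideal.Quotient.mk K c * Ideal.Quotient.mk K x))
        rw [← map_mul, hs, hs, mul_left_comm]
        rfl) }
  let F : D ⊗[C] Disc.Omega R C →ₗ[D] Disc.Omega R D := g.liftBaseChange D
  let G : Disc.Omega R D → D ⊗[C] Disc.Omega R C := fun χ => 1 ⊗ₜ Disc.Omega.mk (χ.toLinearMap ∘ₗ π)
  have hFG : ∀ χ, F (G χ) = χ := fun χ => by
    show g.liftBaseChange D (1 ⊗ₜ _) = χ
    rw [LinearMap.liftBaseChange_tmul, one_smul]
    refine Disc.Omega.ext (LinearMap.ext fun x => ?_)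
    obtain ⟨x, rfl⟩ := Ideal.Quotient.mk_surjective x
    show χ.toLinearMap (Ideal.Quotient.mk K (s (Ideal.Quotient.mk K x))) = _
    rw [hs, map_mul, hse, one_mul]
  have hGg : ∀ φ, G (g φ) = (1 : D) ⊗ₜ[C] φ := fun φ => by
    show (1 : D) ⊗ₜ[C] Disc.Omega.mk ((g φ).toLinearMap ∘ₗ π) = _
    rw [show Disc.Omega.mk ((g φ).toLinearMap ∘ₗ π) = e • φ from Disc.Omega.ext (LinearMap.ext fun x => by
      show φ.toLinearMap (s (Ideal.Quotient.mk K x)) = _
      rw [hs]
      rfl), TensorProduct.tmul_smul, TensorProduct.smul_tmul', Algebra.smul_def, mul_one]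
    rw [show algebraMap C D e = 1 from hse]
  have hsurj : ∀ z : D ⊗[C] Disc.Omega R C, ∃ φ, z = (1 : D) ⊗ₜ[C] φ := fun z => by
    induction z using TensorProduct.induction_on with
    | zero => exact ⟨0, by simp⟩
    | tmul d φ =>
      obtain ⟨c, rfl⟩ := Ideal.Quotient.mk_surjective d
      refine ⟨c • φ, ?_⟩
      rw [TensorProduct.tmul_smul, TensorProduct.smul_tmul', Algebra.smul_def, mul_one]
      rfl
    | add x y hx hy =>
      obtain ⟨a, rfl⟩ := hx
      obtain ⟨b, rfl⟩ := hy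
      exact ⟨a + b, (TensorProduct.tmul_add _ _ _).symm⟩
  refine ⟨LinearEquiv.ofBijective F ⟨fun z z' h => ?_, fun χ => ⟨G χ, hFG χ⟩⟩⟩
  obtain ⟨φ, rfl⟩ := hsurj z
  obtain ⟨φ', rfl⟩ := hsurj z'
  have h' : g φ = g φ' := by simpa [F] using h
  rw [← hGg, ← hGg, h']

end Groth.Agent.QFOmegaSynLib
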