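import Mathlib
import Groth.Agent.S2217
import Groth.Agent.QFOmegaSynLib.Idem
import Groth.Agent.QFDualLib.Ass
import Groth.Agent.QFOmegaSynLib.Base
import Groth.Agent.RegLocal.Completion

/-!
The dualizing module of a quasi-finite syntomic algebra is locally generated by one element.
-/

set_option autoImplicit false
set_option backward.isDefEq.respectTransparency false

universe u

open TensorProduct

namespace Groth.Agent.QFOmegaSynLib

attribute [local instance] Algebra.TensorProduct.rightAlgebra

/-- A finite flat local algebra with syntomic structure has a dualizing module free of rank one. -/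
theorem nonempty_omega_equiv {R D : Type u} [CommRing R] [IsNoetherianRing R] [IsLocalRing R] [CommRing D]
    [Algebra R D] [Module.Finite R D] [IsLocalRing D] (h : Synt.IsSyntomic R D) :
    Nonempty (Disc.Omega R D ≃ₗ[D] D) := by
  haveI := h.1
  haveI : Module.Free R D := Module.free_of_flat_of_isLocalRing
  haveI : Module.Invertible D (Disc.Omega R D) :=
    (Groth.Agent.S2217.result (A := R) (B := D)).1 fun p _ =>
      gorensteinRing_of_isLCIOver p.ResidueField _ (h.2.2 ⟨p, inferInstance⟩)
  exact Module.Invertible.free_iff_linearEquiv.1 inferInstance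

/-- The dualizing module of a finite algebra over a noetherian ring is finite. -/
theorem omega_finite (A B' : Type u) [CommRing A] [IsNoetherianRing A] [CommRing B'] [Algebra A B'] [Module.Finite A B'] :
    Module.Finite B' (Disc.Omega A B') := by
  letI := QFDualLib.omegaModule A B'
  haveI : IsScalarTower A B' (Disc.Omega A B') := ⟨fun a b φ => by rw [Algebra.smul_def, mul_smul]; rfl⟩
  obtain ⟨n, π, hπ⟩ := Module.Finite.exists_fin' A B'
  let g : Disc.Omega A B' →ₗ[A] Module.Dual A (Fin n → A) :=
    { toFun := fun φ => φ.toLinearMap ∘ₗ π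
      map_add' := fun _ _ => rfl
      map_smul' := fun r φ => LinearMap.ext fun x => QFDualLib.omegaModule_smul_apply r φ (π x) }
  haveI : Module.Finite A (Disc.Omega A B') := Module.Finite.of_injective g fun φ ψ h =>
    Disc.Omega.ext (LinearMap.ext fun x => by obtain ⟨y, rfl⟩ := hπ x; exact LinearMap.congr_fun h y)
  exact Module.Finite.of_restrictScalars_finite A B' _

theorem exists_generator_of_descent {B' D X : Type u} [CommRing B'] [IsNoetherianRing B'] [CommRing D]
    [IsLocalRing D] [Algebra B' D] [Module.Flat B' D] [AddCommGroup X] [Module B' X] [Module.Finite B' X]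
    (q' : Ideal B') [q'.IsPrime] (hunit : ∀ b : B', IsUnit (algebraMap B' D b) ↔ b ∉ q')
    (Φ : D ⊗[B'] X ≃ₗ[D] D) :
    ∃ (t : X) (s : B'), s ∉ q' ∧ (∀ l, ∃ c : B', s • l = c • t) ∧ ∀ b : B', b • t = 0 → s * b = 0 := by
  classical
  have ht : ∃ t : X, IsUnit (Φ ((1 : D) ⊗ₜ[B'] t)) := by
    by_contra hne
    push Not at hne
    have hall : ∀ z, Φ z ∈ IsLocalRing.maximalIdeal D := fun z => by
      induction z using TensorProduct.induction_on with
      | zero => rw [map_zero]; exact zero_mem _
      | add x y hx hy => rw [map_add]; exact add_mem hx hy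
      | tmul d l =>
        rw [show d ⊗ₜ[B'] l = d • ((1 : D) ⊗ₜ[B'] l) by
          simp [TensorProduct.smul_tmul'],
          map_smul]
        exact Submodule.smul_mem _ _ (hne l)
    exact (IsLocalRing.maximalIdeal.isMaximal D).ne_top
      ((Ideal.eq_top_iff_one _).2 (by simpa using hall (Φ.symm 1)))
  obtain ⟨t, ht⟩ := ht
  let L := Localization.AtPrime q'
  let N := LocalizedModule q'.primeCompl X
  let j : X →ₗ[B'] N := LocalizedModule.mkLinearMap q'.primeCompl _
  have hu : ∀ b : q'.primeCompl, IsUnit (algebraMap B' D b) := fun b => (hunit b).2 b.2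
  letI : Algebra L D := (IsLocalization.lift hu : L →+* D).toAlgebra
  haveI : IsScalarTower B' L D := .of_algebraMap_eq fun b => (IsLocalization.lift_eq hu b).symm
  haveI : Module.Flat L D := (Module.flat_iff_of_isLocalization L q'.primeCompl _).2 inferInstance
  haveI : IsLocalHom (algebraMap L D) := ⟨fun x hx => by
    obtain ⟨a, b, rfl⟩ := IsLocalization.exists_mk'_eq q'.primeCompl x
    refine (IsLocalization.AtPrime.isUnit_mk'_iff L q' a b).2 ((hunit a).1 ?_)
    rw [IsScalarTower.algebraMap_apply B' L D, ← IsLocalization.mk'_spec L a b, map_mul]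
    exact hx.mul ((IsLocalization.map_units L b).map _)⟩
  haveI : Module.FaithfullyFlat L D := Module.FaithfullyFlat.of_flat_of_isLocalHom
  let τ : L →ₗ[L] N := LinearMap.toSpanSingleton L N (j t)
  have hτ : Function.Bijective (τ.baseChange D) := by
    let Ψ : D ⊗[L] N ≃ₗ[D] D := ((AlgebraTensorModule.congr (LinearEquiv.refl D D)
      (LocalizedModule.equivTensorProduct q'.primeCompl (X))).trans
      (AlgebraTensorModule.cancelBaseChange B' L D D (X))).trans Φ
    have hΨ : Ψ ((1 : D) ⊗ₜ[L] j t) = Φ ((1 : D) ⊗ₜ[B'] t) := by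
      show Φ (AlgebraTensorModule.cancelBaseChange B' L D D (X)
        ((1 : D) ⊗ₜ[L] (LocalizedModule.equivTensorProduct q'.primeCompl (X) (j t)))) = _
      rw [show LocalizedModule.equivTensorProduct q'.primeCompl (X) (j t) = (1 : L) ⊗ₜ[B'] t by
        rw [show j t = LocalizedModule.mk t 1 from rfl, LocalizedModule.equivTensorProduct_apply_mk, Localization.mk_one]]
      simp
    have heq : ∀ z, Ψ (τ.baseChange D z) = TensorProduct.rid L D z * Φ ((1 : D) ⊗ₜ[B'] t) := fun z => by
      induction z using TensorProduct.induction_on with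
      | zero => simp
      | add x y hx hy => rw [map_add, map_add, map_add, hx, hy, add_mul]
      | tmul d l =>
        rw [LinearMap.baseChange_tmul, TensorProduct.rid_tmul]
        show Ψ (d ⊗ₜ[L] (l • j t)) = _
        rw [← TensorProduct.smul_tmul, show (l • d) ⊗ₜ[L] j t = (l • d) • ((1 : D) ⊗ₜ[L] j t) by
          rw [TensorProduct.smul_tmul', smul_eq_mul, mul_one], map_smul, hΨ, smul_eq_mul]
    refine (Function.Bijective.of_comp_iff' Ψ.bijective _).1 ?_
    rw [show Ψ ∘ τ.baseChange D = (fun d => d * Φ ((1 : D) ⊗ₜ[B'] t)) ∘ TensorProduct.rid L D from funext heq]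
    have hb : Function.Bijective fun d : D => d * Φ ((1 : D) ⊗ₜ[B'] t) :=
      ⟨fun a b h => ht.mul_right_cancel h, fun a => ⟨a * ht.unit⁻¹.1, by simp [mul_assoc]⟩⟩
    exact hb.comp (TensorProduct.rid L D).bijective
  have hτ' : Function.Bijective τ :=
    ⟨(Module.FaithfullyFlat.lTensor_injective_iff_injective L D τ).1 hτ.1,
      (Module.FaithfullyFlat.lTensor_surjective_iff_surjective L D τ).1 hτ.2⟩
  -- spread out
  obtain ⟨m, gl, hgl⟩ := Module.Finite.exists_fin (R := B') (M := X)
  have hgen : ∀ i, ∃ s ∈ q'.primeCompl, ∃ c : B', s • gl i = c • t := fun i => by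
    obtain ⟨x, hx⟩ := hτ'.2 (j (gl i))
    obtain ⟨a, b, rfl⟩ := IsLocalization.exists_mk'_eq q'.primeCompl x
    have h : j ((b : B') • gl i) = j (a • t) := by
      rw [map_smul, map_smul, ← hx]
      show (b : B') • (IsLocalization.mk' L a b • j t) = a • j t
      rw [← smul_assoc, Algebra.smul_def, IsLocalization.mk'_spec', algebraMap_smul]
    obtain ⟨c, hc⟩ := (IsLocalizedModule.eq_iff_exists q'.primeCompl j).1 h
    refine ⟨c * b, (c * b).2, c * a, ?_⟩
    rw [mul_smul, mul_smul]
    exact hc
  choose sg hsg cg hcg using hgen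
  obtain ⟨k, an, han⟩ := Submodule.fg_iff_exists_fin_generating_family.1
    (IsNoetherian.noetherian (LinearMap.ker (LinearMap.toSpanSingleton B' X t)))
  have hann : ∀ i, ∃ s ∈ q'.primeCompl, s * an i = 0 := fun i => by
    have h0 : an i • t = 0 := by
      have : an i ∈ LinearMap.ker (LinearMap.toSpanSingleton B' (X) t) :=
        han.le (Submodule.subset_span ⟨i, rfl⟩)
      exact this
    have h1 : τ (algebraMap B' L (an i)) = τ 0 := by
      rw [map_zero]
      show algebraMap B' L (an i) • j t = 0
      rw [algebraMap_smul, ← map_smul, h0, map_zero]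
    obtain ⟨c, hc⟩ := (IsLocalization.map_eq_zero_iff q'.primeCompl L _).1 (hτ'.1 h1)
    exact ⟨c, c.2, hc⟩
  choose sa hsa hsa' using hann
  refine ⟨t, (∏ i, sg i) * ∏ i, sa i, ?_, fun l => ?_, fun b hb => ?_⟩
  · exact Submonoid.mul_mem q'.primeCompl (Submonoid.prod_mem _ fun i _ => hsg i)
      (Submonoid.prod_mem _ fun i _ => hsa i)
  · have hl : l ∈ Submodule.span B' (Set.range gl) := hgl ▸ Submodule.mem_top
    induction hl using Submodule.span_induction with
    | mem y hy =>
      obtain ⟨i, rfl⟩ := hy
      obtain ⟨r, hr⟩ := (Finset.dvd_prod_of_mem sg (Finset.mem_univ i)).mul_right (∏ i, sa i)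
      exact ⟨r * cg i, by rw [hr, mul_comm (sg i), mul_smul, hcg, ← mul_smul]⟩
    | zero => exact ⟨0, by simp⟩
    | add y z _ _ h1 h2 =>
      obtain ⟨a, ha⟩ := h1
      obtain ⟨b, hb⟩ := h2
      exact ⟨a + b, by rw [smul_add, add_smul, ha, hb]⟩
    | smul r y _ h1 =>
      obtain ⟨a, ha⟩ := h1
      exact ⟨r * a, by rw [smul_comm, ha, mul_smul]⟩
  · have hb' : b ∈ Submodule.span B' (Set.range an) := han.ge hb
    clear hb
    induction hb' using Submodule.span_induction with
    | mem y hy =>
      obtain ⟨i, rfl⟩ := hy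
      obtain ⟨r, hr⟩ := (Finset.dvd_prod_of_mem sa (Finset.mem_univ i)).mul_left (∏ i, sg i)
      rw [hr, mul_right_comm, hsa', zero_mul]
    | zero => simp
    | add y z _ _ h1 h2 => rw [mul_add, h1, h2, add_zero]
    | smul r y _ h1 => rw [smul_eq_mul, mul_left_comm, h1, mul_zero]


theorem exists_generator {A B' B : Type u} [CommRing A] [CommRing B'] [CommRing B] [IsNoetherianRing A]
    [Algebra A B'] [Algebra B' B] [Algebra A B] [IsScalarTower A B' B] [Module.Finite A B']
    (hoi : AlgebraicGeometry.IsOpenImmersion (AlgebraicGeometry.Spec.map (CommRingCat.ofHom (algebraMap B' B))))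
    (hs : Synt.IsSyntomic A B) (q : Ideal B) [q.IsPrime] :
    ∃ (t : Disc.Omega A B') (s : B'), algebraMap B' B s ∉ q ∧ (∀ l, ∃ c : B', s • l = c • t) ∧
      ∀ b : B', b • t = 0 → s * b = 0 := by
  classical
  haveI : IsNoetherianRing B' := IsNoetherianRing.of_finite A B'
  obtain ⟨f, hfq, hfb⟩ := QFDualLib.exists_away_bijective hoi q
  let q' : Ideal B' := q.comap (algebraMap B' B)
  let p : Ideal A := q'.comap (algebraMap A B')
  let Ap := Localization.AtPrime p
  let R := AdicCompletion (IsLocalRing.maximalIdeal Ap) Ap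
  haveI : IsNoetherianRing R := RegLocal.isNoetherianRing_completion Ap _
  haveI : IsLocalRing R := RegLocal.isLocalRing_completion Ap _ (IsLocalRing.maximalIdeal.isMaximal Ap).ne_top
  haveI hR : IsAdicComplete (IsLocalRing.maximalIdeal R) R :=
    AdicCompletion.isAdicComplete_of_fg (IsLocalRing.maximalIdeal Ap).fg_of_isNoetherianRing
  haveI : Module.Flat A R :=
    haveI : Module.Flat A Ap := IsLocalization.flat Ap p.primeCompl
    Module.Flat.trans A Ap R
  let C := R ⊗[A] B'
  haveI : Module.Finite R C := inferInstance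
  -- the point of `C` over `q'` and the closed point
  haveI : IsLocalHom (algebraMap Ap R) :=
    AdicCompletion.algebraMap_isLocalHom_of_fg (IsLocalRing.maximalIdeal Ap).fg_of_isNoetherianRing
  have hbij := AdicCompletion.residueField_map_bijective (R := Ap)
  let ρ : R →+* q'.ResidueField :=
    (Ideal.ResidueField.map p q' (algebraMap A B') rfl).comp
      ((RingEquiv.ofBijective _ hbij).symm.toRingHom.comp (IsLocalRing.residue R))
  have hρA : ∀ a : A, ρ (algebraMap A R a) = algebraMap A q'.ResidueField a := fun a => by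
    show Ideal.ResidueField.map p q' (algebraMap A B') rfl ((RingEquiv.ofBijective _ hbij).symm
      (IsLocalRing.residue R (algebraMap Ap R (algebraMap A Ap a)))) = _
    rw [show IsLocalRing.residue R (algebraMap Ap R (algebraMap A Ap a)) =
      RingEquiv.ofBijective _ hbij (algebraMap A p.ResidueField a) from rfl, RingEquiv.symm_apply_apply]
    rw [IsScalarTower.algebraMap_apply A B' q'.ResidueField]
    exact Ideal.ResidueField.map_algebraMap p q' (algebraMap A B') rfl a
  let ρA : R →ₐ[A] q'.ResidueField := { ρ with commutes' := hρA }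
  let βA : B' →ₐ[A] q'.ResidueField := { algebraMap B' q'.ResidueField with commutes' := fun a => (IsScalarTower.algebraMap_apply A B' q'.ResidueField a).symm }
  let pt : C →ₐ[A] q'.ResidueField := Algebra.TensorProduct.lift ρA βA fun _ _ => Commute.all _ _
  let M : Ideal C := RingHom.ker pt.toRingHom
  haveI : M.IsPrime := RingHom.ker_isPrime _
  have hMB : M.comap (algebraMap B' C) = q' := by
    refine Ideal.ext fun b => ?_
    show pt ((1 : R) ⊗ₜ[A] b) = 0 ↔ b ∈ q'
    have hpt : pt ((1 : R) ⊗ₜ[A] b) = algebraMap B' q'.ResidueField b := by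
      show ρA 1 * βA b = _
      rw [map_one, one_mul]; rfl
    rw [hpt, Ideal.algebraMap_residueField_eq_zero]
  haveI : M.IsMaximal := by
    have hMR : (M.comap (algebraMap R C)).IsMaximal := by
      have hle : IsLocalRing.maximalIdeal R ≤ M.comap (algebraMap R C) := fun x hx => by
        show pt (x ⊗ₜ[A] (1 : B')) = 0
        show ρA x * βA 1 = 0
        rw [map_one, mul_one]
        show ρ x = 0
        show Ideal.ResidueField.map p q' (algebraMap A B') rfl ((RingEquiv.ofBijective _ hbij).symm
          (IsLocalRing.residue R x)) = 0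
        rw [(IsLocalRing.residue_eq_zero_iff x).2 hx, map_zero, map_zero]
      rw [← (IsLocalRing.maximalIdeal.isMaximal R).eq_of_le (Ideal.IsPrime.comap (algebraMap R C)).ne_top hle]
      infer_instance
    exact Ideal.isMaximal_of_isIntegral_of_isMaximal_comap M hMR
  obtain ⟨e, he, heM, heN⟩ := exists_idempotent_local (R := R) M
  obtain ⟨hDloc, hDu⟩ := isLocalRing_factor M e he heM heN
  let D := C ⧸ Ideal.span {1 - e}
  haveI : IsLocalRing D := hDloc
  haveI : IsLocalization.Away e D := IsLocalization.Away.quotient_of_isIdempotentElem he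
  -- `D` is syntomic
  have hfM : (algebraMap B' C f) ∉ M := fun h => hfq (by
    have h' : f ∈ M.comap (algebraMap B' C) := h
    rw [hMB] at h'
    exact h')
  have hsD : Synt.IsSyntomic R D := by
    let T := Localization.Away ((1 : R) ⊗ₜ[A] f : C)
    let Bf' := Localization.Away f
    let Bf := Localization.Away (algebraMap B' B f)
    let μ : Bf' →ₐ[A] Bf :=
      { Localization.awayMap (algebraMap B' B) f with
        commutes' := fun a => by
          show Localization.awayMap (algebraMap B' B) f (algebraMap A Bf' a) = _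
          rw [IsScalarTower.algebraMap_apply A B' Bf', IsScalarTower.algebraMap_apply A B Bf,
            IsScalarTower.algebraMap_apply A B' B]
          exact IsLocalization.map_eq _ _ }
    have hBf : Synt.IsSyntomic A Bf' :=
      CILib.isSyntomic_congr (AlgEquiv.ofBijective μ hfb).symm (CILib.isSyntomic_away hs (algebraMap B' B f) Bf)
    obtain ⟨eT⟩ := CILib.exists_fibre_away_equiv (R := A) (S := B') R f Bf'
    have hT : Synt.IsSyntomic R T := CILib.isSyntomic_congr eT.symm (isSyntomic_baseChange hBf R)
    let D' := Localization.Away (algebraMap C T e)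
    have hD' : Synt.IsSyntomic R D' := CILib.isSyntomic_away hT (algebraMap C T e) D'
    haveI : IsLocalization.Away (algebraMap C D ((1 : R) ⊗ₜ[A] f)) D :=
      IsLocalization.away_of_isUnit_of_bijective D (hDu _ hfM) Function.bijective_id
    haveI : IsLocalization.Away (e * ((1 : R) ⊗ₜ[A] f)) D :=
      IsLocalization.Away.mul' D D e ((1 : R) ⊗ₜ[A] f)
    haveI : IsLocalization.Away (e * ((1 : R) ⊗ₜ[A] f)) D' :=
      IsLocalization.Away.mul T D' ((1 : R) ⊗ₜ[A] f) e
    exact CILib.isSyntomic_congr
      ((IsLocalization.algEquiv (Submonoid.powers (e * ((1 : R) ⊗ₜ[A] f))) D' D).restrictScalars R) hD'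
  obtain ⟨eD⟩ := nonempty_omega_equiv hsD
  -- the base change
  obtain ⟨eI⟩ := exists_omega_factor_equiv (R := R) (C := C) e he
  have hpo : Algebra.IsPushout A R B' C := inferInstance
  have hbc := QFDualLib.omegaBC_bijective_of_flat (B₁ := D) hpo
  let Φ : D ⊗[B'] Disc.Omega A B' ≃ₗ[D] D :=
    ((LinearEquiv.ofBijective _ hbc).trans eI).trans eD
  haveI : Module.Finite B' (Disc.Omega A B') := omega_finite A B'
  haveI : Algebra.IsPushout A B' R C := Algebra.IsPushout.symm inferInstance
  haveI : Module.Flat B' C := Module.Flat.isBaseChange A B' R C (Algebra.IsPushout.out (R := A) (S := B') (R' := R) (S' := C))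
  haveI : Module.Flat C D := IsLocalization.flat D (Submonoid.powers e)
  haveI : Module.Flat B' D := Module.Flat.trans B' C D
  refine exists_generator_of_descent (D := D) q' (fun b => ⟨fun h hb => ?_, fun hb => ?_⟩) Φ
  · rw [IsScalarTower.algebraMap_apply B' C D] at h
    obtain ⟨y, hy⟩ := h.exists_right_inv
    obtain ⟨y, rfl⟩ := Ideal.Quotient.mk_surjective y
    have hK : Ideal.span {1 - e} ≤ M := by
      rw [Ideal.span_singleton_le_iff_mem]
      refine (Ideal.IsPrime.mem_or_mem (inferInstance : M.IsPrime) (?_ : e * (1 - e) ∈ M)).resolve_left heM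
      rw [mul_sub, mul_one, he.eq, sub_self]
      exact zero_mem M
    have h2 : algebraMap B' C b * y - 1 ∈ M := hK (Ideal.Quotient.eq.1 hy)
    exact Ideal.IsMaximal.ne_top ‹M.IsMaximal› ((Ideal.eq_top_iff_one _).2
      (by simpa using sub_mem (M.mul_mem_right y ((SetLike.ext_iff.1 hMB _).2 hb)) h2))
  · rw [IsScalarTower.algebraMap_apply B' C D]
    exact hDu (algebraMap B' C b) fun h => hb ((SetLike.ext_iff.1 hMB _).1 h)

end Groth.Agent.QFOmegaSynLib
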